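import Groth.Agent.FieldEmb.Large

/-!
Automorphisms of large algebraically closed fields relating two embeddings.
-/

universe u

open Cardinal

namespace Groth.Agent.FieldEmb

theorem nonempty_algEquiv_of_card {k K L : Type u} [Field k] [Field K] [Field L]
    [Algebra k K] [Algebra k L] [IsAlgClosed K] [IsAlgClosed L]
    (hk : #k < #K) (h0 : ℵ₀ < #K) (h : #K = #L) : Nonempty (K ≃ₐ[k] L) := by
  obtain ⟨s, hs⟩ := exists_isTranscendenceBasis k K
  obtain ⟨t, ht⟩ := exists_isTranscendenceBasis k L
  have key : ∀ {M : Type u} [Field M] [Algebra k M] [IsAlgClosed M] (r : Set M),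
      IsTranscendenceBasis k ((↑) : r → M) → #k < #M → ℵ₀ < #M → #r = #M := by
    intro M _ _ _ r hr h₁ h₂
    refine le_antisymm (mk_set_le r) ?_
    rcases le_max_iff.1 (IsAlgClosed.cardinal_le_max_transcendence_basis' _ hr) with h' | h'
    · rcases le_max_iff.1 h' with h'' | h''
      · exact absurd h'' h₁.not_ge
      · exact h''
    · exact absurd h' h₂.not_ge
  obtain ⟨e⟩ := Cardinal.eq.1 ((key s hs hk h0).trans (h.trans (key t ht (h ▸ hk) (h ▸ h0)).symm))
  letI := IsAlgClosed.isAlgClosure_of_transcendence_basis _ hs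
  letI := IsAlgClosed.isAlgClosure_of_transcendence_basis _ ht
  let e' : Algebra.adjoin k (Set.range ((↑) : s → K)) ≃ₐ[k] Algebra.adjoin k (Set.range ((↑) : t → L)) :=
    hs.1.aevalEquiv.symm.trans ((MvPolynomial.renameEquiv k e).trans ht.1.aevalEquiv)
  let E := IsAlgClosure.equivOfEquiv K L e'.toRingEquiv
  refine ⟨AlgEquiv.ofRingEquiv (f := E) fun x => ?_⟩
  rw [IsScalarTower.algebraMap_apply k (Algebra.adjoin k (Set.range ((↑) : s → K))) K,
    IsAlgClosure.equivOfEquiv_algebraMap]
  change algebraMap _ L (e' (algebraMap k _ x)) = _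
  rw [e'.commutes, ← IsScalarTower.algebraMap_apply]

/-- Two embeddings into a field differ by an automorphism after a large algebraically closed extension. -/
theorem exists_algClosed_auto {k L : Type u} [Field k] [Field L] (a b : k →+* L) :
    ∃ (K : Type u) (_ : Field K) (_ : IsAlgClosed K) (φ : L →+* K) (τ : K ≃+* K),
      τ.toRingHom.comp (φ.comp a) = φ.comp b := by
  let ι := Set (L ⊕ ULift.{u} ℕ)
  let P := FractionRing (MvPolynomial ι L)
  let K := AlgebraicClosure P
  let φ : L →+* K := (algebraMap P K).comp ((algebraMap (MvPolynomial ι L) P).comp MvPolynomial.C)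
  have hι : #ι ≤ #K := mk_le_of_injective
    (f := fun i => algebraMap P K (algebraMap (MvPolynomial ι L) P (MvPolynomial.X i)))
    fun i j h => MvPolynomial.X_injective (IsFractionRing.injective (MvPolynomial ι L) P ((algebraMap P K).injective h))
  have hbig : #(L ⊕ ULift.{u} ℕ) < #K := lt_of_lt_of_le (by rw [mk_set]; exact cantor _) hι
  have hk : #k < #K := lt_of_le_of_lt
    (mk_le_of_injective (f := fun x => (Sum.inl (a x) : L ⊕ ULift.{u} ℕ))
      fun _ _ h => a.injective (Sum.inl_injective h)) hbig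
  have h0 : ℵ₀ < #K := lt_of_le_of_lt (aleph0_le_mk _) hbig
  obtain ⟨τ⟩ := @nonempty_algEquiv_of_card k K K _ _ _ (φ.comp a).toAlgebra (φ.comp b).toAlgebra _ _ hk h0 rfl
  exact ⟨K, inferInstance, inferInstance, φ, @AlgEquiv.toRingEquiv _ _ _ _ _ _ (φ.comp a).toAlgebra (φ.comp b).toAlgebra τ,
    RingHom.ext fun x => @AlgEquiv.commutes _ _ _ _ _ _ (φ.comp a).toAlgebra (φ.comp b).toAlgebra τ x⟩

end Groth.Agent.FieldEmb
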