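import Mathlib.FieldTheory.IsAlgClosed.Classification
import Mathlib.RingTheory.AlgebraicIndependent.TranscendenceBasis
import Mathlib.RingTheory.AlgebraicIndependent.Defs
import Mathlib

/-!
Embedding a field in a larger algebraically closed field.
-/

universe u

open Cardinal

namespace Groth.Agent.FieldEmb

/-- An extension `L/k` embeds in every algebraically closed extension `K/k` of bigger cardinality. -/
theorem exists_algHom_of_card_lt {k L K : Type u} [Field k] [Field L] [Field K]
    [Algebra k L] [Algebra k K] [IsAlgClosed K] (h : #L < #K) : Nonempty (L →ₐ[k] K) := by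
  rcases finite_or_infinite L with hfin | hinf
  · haveI : Algebra.IsAlgebraic k L := Algebra.IsAlgebraic.of_finite k L
    exact ⟨IsAlgClosed.lift⟩
  obtain ⟨s, hs⟩ := exists_isTranscendenceBasis k L
  obtain ⟨t, ht⟩ := exists_isTranscendenceBasis k K
  have hk : #k ≤ #L := mk_le_of_injective (algebraMap k L).injective
  have hL : ℵ₀ ≤ #L := aleph0_le_mk L
  have hK : #K ≤ max (max #k #t) ℵ₀ :=
    IsAlgClosed.cardinal_le_max_transcendence_basis' _ ht
  have hst : #s ≤ #t := by
    rcases le_max_iff.1 hK with h' | h'
    · rcases le_max_iff.1 h' with h'' | h''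
      · exact absurd (h''.trans hk) h.not_ge
      · exact ((mk_set_le s).trans h.le).trans h''
    · exact absurd (h'.trans hL) h.not_ge
  obtain ⟨j⟩ := hst
  have hv : AlgebraicIndependent k (fun i : s => ((j i : t) : K)) := ht.1.comp j j.injective
  let e := hs.1.aevalEquivField
  let φ : FractionRing (MvPolynomial s k) →ₐ[k] K := IsFractionRing.liftAlgHom hv
  let ψ := φ.comp e.symm.toAlgHom
  haveI : Algebra.IsAlgebraic (IntermediateField.adjoin k (Set.range ((↑) : s → L))) L :=
    hs.isAlgebraic_field
  letI := ψ.toRingHom.toAlgebra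
  haveI : IsScalarTower k (IntermediateField.adjoin k (Set.range ((↑) : s → L))) K :=
    IsScalarTower.of_algebraMap_eq fun x => (ψ.commutes x).symm
  exact ⟨(IsAlgClosed.lift (M := K) (R := IntermediateField.adjoin k (Set.range ((↑) : s → L))) (S := L)).restrictScalars k⟩

end Groth.Agent.FieldEmb
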