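import Groth.Agent.FieldEmb.Auto
import Mathlib.AlgebraicGeometry.ResidueField

/-!
Points of the restriction of a relation on a field with large residue fields on both sides.
-/

universe u

open CategoryTheory CategoryTheory.Limits AlgebraicGeometry

set_option backward.isDefEq.respectTransparency false

namespace Groth.Agent.FieldEmb

theorem isIso_residueFieldMap_of_retraction {X Y Z : Scheme.{u}} (q : Z ⟶ X) (p : X ⟶ Y) [IsIso (q ≫ p)] (z : Z) :
    IsIso (p.residueFieldMap (q z)) := by
  haveI : Mono (q.residueFieldMap z) := ConcreteCategory.mono_of_injective _ (RingHom.injective _)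
  haveI : IsSplitMono (p.residueFieldMap (q z)) := by
    haveI : IsIso (p.residueFieldMap (q z) ≫ q.residueFieldMap z) := by
      rw [← Scheme.residueFieldMap_comp]; infer_instance
    exact IsSplitMono.mk' ⟨q.residueFieldMap z ≫ inv (p.residueFieldMap (q z) ≫ q.residueFieldMap z), by
      rw [← Category.assoc, IsIso.hom_inv_id]⟩
  haveI : IsIso (p.residueFieldMap (q z) ≫ q.residueFieldMap z) := by
    rw [← Scheme.residueFieldMap_comp]; infer_instance
  haveI : IsSplitEpi (q.residueFieldMap z) :=
    IsSplitEpi.mk' ⟨inv (p.residueFieldMap (q z) ≫ q.residueFieldMap z) ≫ p.residueFieldMap (q z), by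
      rw [Category.assoc, IsIso.inv_hom_id]⟩
  haveI : IsIso (q.residueFieldMap z) := isIso_of_mono_of_isSplitEpi _
  exact IsIso.of_isIso_comp_right (p.residueFieldMap (q z)) (q.residueFieldMap z)

theorem exists_point_restriction {U R : Scheme.{u}} (s t : R ⟶ U) (k : Type u) [Field k]
    (eU : U ≅ Spec (CommRingCat.of k)) (r : R) :
    ∃ (k' : Type u) (_ : Field k') (_ : IsAlgClosed k') (_ : Algebra k k'),
      ∃ r' : ↑(pullback (pullback.snd (Spec.map (CommRingCat.ofHom (algebraMap k k')) ≫ eU.inv) t ≫ s)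
          (Spec.map (CommRingCat.ofHom (algebraMap k k')) ≫ eU.inv)),
        (pullback.fst (pullback.snd (Spec.map (CommRingCat.ofHom (algebraMap k k')) ≫ eU.inv) t ≫ s)
            (Spec.map (CommRingCat.ofHom (algebraMap k k')) ≫ eU.inv) ≫
          pullback.snd (Spec.map (CommRingCat.ofHom (algebraMap k k')) ≫ eU.inv) t) r' = r ∧
        IsIso ((pullback.snd (pullback.snd (Spec.map (CommRingCat.ofHom (algebraMap k k')) ≫ eU.inv) t ≫ s)
            (Spec.map (CommRingCat.ofHom (algebraMap k k')) ≫ eU.inv)).residueFieldMap r') ∧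
        IsIso ((pullback.fst (pullback.snd (Spec.map (CommRingCat.ofHom (algebraMap k k')) ≫ eU.inv) t ≫ s)
            (Spec.map (CommRingCat.ofHom (algebraMap k k')) ≫ eU.inv) ≫
          pullback.fst (Spec.map (CommRingCat.ofHom (algebraMap k k')) ≫ eU.inv) t).residueFieldMap r') := by
  obtain ⟨K, _, _, φ, τ, hτ⟩ := exists_algClosed_auto
    (k := k) (L := ↥(R.residueField r))
    (Spec.preimage (R.fromSpecResidueField r ≫ t ≫ eU.hom)).hom
    (Spec.preimage (R.fromSpecResidueField r ≫ s ≫ eU.hom)).hom
  letI : Algebra k K := (φ.comp (Spec.preimage (R.fromSpecResidueField r ≫ t ≫ eU.hom)).hom).toAlgebra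
  refine ⟨K, inferInstance, inferInstance, inferInstance, ?_⟩
  set g := Spec.map (CommRingCat.ofHom (algebraMap k K)) ≫ eU.inv with hg
  let x : Spec (CommRingCat.of K) ⟶ R := Spec.map (CommRingCat.ofHom φ) ≫ R.fromSpecResidueField r
  let T : Spec (CommRingCat.of K) ⟶ Spec (CommRingCat.of K) := Spec.map (CommRingCat.ofHom τ.toRingHom)
  haveI : IsIso T :=
    haveI : IsIso (CommRingCat.ofHom τ.toRingHom) := τ.toCommRingCatIso.isIso_hom
    inferInstanceAs (IsIso (Spec.map _))
  have ht : x ≫ t = g := by
    rw [← cancel_mono eU.hom]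
    simp only [x, hg, Category.assoc, Iso.inv_hom_id, Category.comp_id]
    rw [← Spec.map_preimage (R.fromSpecResidueField r ≫ t ≫ eU.hom), ← Spec.map_comp]
    rfl
  have hs : x ≫ s = T ≫ g := by
    rw [← cancel_mono eU.hom]
    simp only [x, T, hg, Category.assoc, Iso.inv_hom_id, Category.comp_id]
    rw [← Spec.map_preimage (R.fromSpecResidueField r ≫ s ≫ eU.hom), ← Spec.map_comp, ← Spec.map_comp]
    congr 1
    exact CommRingCat.hom_ext hτ.symm
  let q₁ : Spec (CommRingCat.of K) ⟶ pullback g t := pullback.lift (𝟙 _) x (by rw [Category.id_comp, ht])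
  let q : Spec (CommRingCat.of K) ⟶ pullback (pullback.snd g t ≫ s) g :=
    pullback.lift q₁ T (by rw [← Category.assoc, pullback.lift_snd, hs])
  refine ⟨q (IsLocalRing.closedPoint K), ?_, ?_, ?_⟩
  · rw [← Scheme.Hom.comp_apply, ← Category.assoc, pullback.lift_fst, pullback.lift_snd]
    exact Scheme.fromSpecResidueField_apply r _
  · haveI : IsIso (q ≫ pullback.snd (pullback.snd g t ≫ s) g) := by rw [pullback.lift_snd]; infer_instance
    exact isIso_residueFieldMap_of_retraction q _ _
  · haveI : IsIso (q ≫ pullback.fst (pullback.snd g t ≫ s) g ≫ pullback.fst g t) := by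
      rw [← Category.assoc, pullback.lift_fst, pullback.lift_fst]; infer_instance
    exact isIso_residueFieldMap_of_retraction q _ _

end Groth.Agent.FieldEmb
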